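import Mathlib.NumberTheory.NumberField.Basic
import Mathlib.RingTheory.DedekindDomain.Dvr
import Mathlib.RingTheory.DedekindDomain.IntegralClosure
import Mathlib.RingTheory.Ideal.GoingUp
import Mathlib.LinearAlgebra.FreeModule.IdealQuotient
import Mathlib.RingTheory.LocalRing.ResidueField.Ideal
import Mathlib.RingTheory.Localization.AtPrime.Basic

/-!
# A discrete valuation ring above a given prime of a number field
-/

set_option autoImplicit false
universe u
open NumberField

namespace K940.RedAlg

/-- Elements integral over `ℤ` of a subfield lift to a Dedekind order. -/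
theorem exists_lift {R F M : Type*} [CommRing R] [IsDomain R] [IsIntegrallyClosed R] [Field F] [Algebra R F]
    [IsFractionRing R F] [Field M] (i : M →+* F) :
    ∃ r : 𝓞 M →+* R, (algebraMap R F).comp r = i.comp (algebraMap (𝓞 M) M) := by
  have hinj : Function.Injective (algebraMap R F) := IsFractionRing.injective R F
  let E : R ≃+* (algebraMap R F).range :=
    RingEquiv.ofBijective (algebraMap R F).rangeRestrict
      ⟨fun x y h => hinj (congrArg Subtype.val h), (algebraMap R F).rangeRestrict_surjective⟩
  have hmem : ∀ x : 𝓞 M, (i.comp (algebraMap (𝓞 M) M)) x ∈ (algebraMap R F).range := by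
    intro x
    have h1 : IsIntegral ℤ (i (algebraMap (𝓞 M) M x)) :=
      map_isIntegral_int i (NumberField.RingOfIntegers.isIntegral_coe x)
    have h2 : IsIntegral R (i (algebraMap (𝓞 M) M x)) := h1.tower_top
    obtain ⟨y, hy⟩ := IsIntegrallyClosed.algebraMap_eq_of_integral h2
    exact ⟨y, hy⟩
  let c : 𝓞 M →+* (algebraMap R F).range := (i.comp (algebraMap (𝓞 M) M)).codRestrict _ hmem
  refine ⟨E.symm.toRingHom.comp c, RingHom.ext fun x => ?_⟩
  change algebraMap R F (E.symm (c x)) = _
  have h3 : E (E.symm (c x)) = c x := E.apply_symm_apply _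
  exact congrArg Subtype.val h3

/-- Above every maximal ideal of the ring of integers of a number field mapping into the fraction field
of a Dedekind domain finite over `ℤ` there is a discrete valuation ring. -/
theorem exists_dvr {R F : Type u} {M : Type*} [CommRing R] [IsDedekindDomain R] [Field F] [Algebra R F]
    [IsFractionRing R F] [CharZero F] [Module.Finite ℤ R] [Field M] [NumberField M] (i : M →+* F)
    (P : Ideal (𝓞 M)) [P.IsMaximal] :
    ∃ (D : Type u) (_ : CommRing D) (_ : IsDomain D) (_ : IsDiscreteValuationRing D)
      (_ : Algebra D F) (_ : IsFractionRing D F) (φ : R →+* D) (r : 𝓞 M →+* D),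
      (algebraMap D F).comp φ = algebraMap R F ∧
      (algebraMap D F).comp r = i.comp (algebraMap (𝓞 M) M) ∧
      RingHom.ker ((IsLocalRing.residue D).comp r) = P ∧
      Finite (IsLocalRing.ResidueField D) := by
  obtain ⟨r', hr'⟩ := exists_lift (R := R) i
  have hR0 : CharZero R := by
    have := IsFractionRing.injective R F
    exact charZero_of_injective_algebraMap (R := ℤ) (A := R) (by
      intro a b hab
      have h1 : (a : F) = (b : F) := by
        have := congrArg (algebraMap R F) hab
        simpa using this
      exact_mod_cast h1)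
  have hinjr : Function.Injective r' := by
    have h1 : Function.Injective (i.comp (algebraMap (𝓞 M) M)) :=
      i.injective.comp (NumberField.RingOfIntegers.coe_injective)
    rw [← hr'] at h1
    exact Function.Injective.of_comp h1
  let _ : Algebra (𝓞 M) R := r'.toAlgebra
  have hint : Algebra.IsIntegral (𝓞 M) R := by
    refine ⟨fun x => ?_⟩
    have h1 : IsIntegral ℤ x := Algebra.IsIntegral.isIntegral x
    exact h1.tower_top
  have hP0 : P ≠ ⊥ := Ring.ne_bot_of_isMaximal_of_not_isField ‹_› (RingOfIntegers.not_isField M)
  obtain ⟨q, hq, hqP⟩ := Ideal.exists_ideal_over_maximal_of_isIntegral (S := R) P (by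
    change RingHom.ker r' ≤ P
    rw [(RingHom.injective_iff_ker_eq_bot _).1 hinjr]
    exact bot_le)
  have hq0 : q ≠ ⊥ := by
    rintro rfl
    apply hP0
    rw [← hqP, ← RingHom.ker_eq_comap_bot]
    exact (RingHom.injective_iff_ker_eq_bot _).1 hinjr
  have hqp : q.IsPrime := hq.isPrime
  let D := Localization.AtPrime q
  have hD : IsDiscreteValuationRing D :=
    IsLocalization.AtPrime.isDiscreteValuationRing_of_dedekind_domain R hq0 D
  have hunit : ∀ y : q.primeCompl, IsUnit (algebraMap R F y) := by
    intro y
    rw [isUnit_iff_ne_zero]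
    intro h0
    have : (y : R) = 0 := (IsFractionRing.injective R F) (by rw [h0, map_zero])
    exact y.2 (this ▸ q.zero_mem)
  let ψ : D →+* F := IsLocalization.lift (M := q.primeCompl) (S := D) (g := algebraMap R F) hunit
  let _ : Algebra D F := ψ.toAlgebra
  have hψ : (algebraMap D F).comp (algebraMap R D) = algebraMap R F :=
    RingHom.ext fun x => IsLocalization.lift_eq hunit x
  have hst : IsScalarTower R D F := IsScalarTower.of_algebraMap_eq' hψ.symm
  have hfr : IsFractionRing D F :=
    IsFractionRing.isFractionRing_of_isDomain_of_isLocalization q.primeCompl D F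
  refine ⟨D, inferInstance, inferInstance, hD, inferInstance, hfr, algebraMap R D,
    (algebraMap R D).comp r', hψ, ?_, ?_, ?_⟩
  · rw [← RingHom.comp_assoc, hψ, hr']
  · have h1 : (IsLocalRing.maximalIdeal D).comap (algebraMap R D) = q :=
      IsLocalization.AtPrime.under_maximalIdeal D q
    ext x
    rw [RingHom.mem_ker, RingHom.comp_apply, IsLocalRing.residue_eq_zero_iff, RingHom.comp_apply, ← Ideal.mem_comap, h1,
      ← hqP]
    exact Iff.rfl
  · have h1 : Finite (R ⧸ q) := by
      have : Module.Free ℤ R := inferInstance
      exact Ideal.finiteQuotientOfFreeOfNeBot q hq0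
    have h2 := Ideal.bijective_algebraMap_quotient_residueField q
    exact Finite.of_surjective _ h2.2

end K940.RedAlg
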