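import Groth.Prelude.Def_EndRing
import Groth.Agent.AbVar.K520.HomFg
import Mathlib.RingTheory.Localization.BaseChange
import Mathlib.RingTheory.Localization.Integral
import Mathlib.RingTheory.Flat.TorsionFree
import Mathlib.LinearAlgebra.Dimension.Constructions
import Mathlib.LinearAlgebra.FreeModule.PID

/-!
# The field of complex multiplication inside `End⁰`
-/

set_option autoImplicit false
universe u v
open scoped TensorProduct nonZeroDivisors

namespace K940.RedFld

section alg

variable (O : Type v) [CommRing O] [IsDomain O] [CharZero O] [Module.Finite ℤ O]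

omit [Module.Finite ℤ O] in
attribute [local instance] Algebra.TensorProduct.rightAlgebra in
theorem isDomain_tensor : IsDomain (ℚ ⊗[ℤ] O) := by
  have h1 : IsLocalization (Algebra.algebraMapSubmonoid O ℤ⁰) (ℚ ⊗[ℤ] O) := inferInstance
  refine IsLocalization.isDomain_of_le_nonZeroDivisors (R := O) (M := Algebra.algebraMapSubmonoid O ℤ⁰) _ ?_
  rintro _ ⟨n, hn, rfl⟩
  rw [mem_nonZeroDivisors_iff_ne_zero]
  have h2 : n ≠ 0 := mem_nonZeroDivisors_iff_ne_zero.1 hn
  change (algebraMap ℤ O) n ≠ 0
  rw [eq_intCast]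
  exact_mod_cast h2

theorem isField_tensor : IsField (ℚ ⊗[ℤ] O) := by
  have := isDomain_tensor O
  have h1 : Algebra.IsIntegral ℚ (ℚ ⊗[ℤ] O) := inferInstance
  exact isField_of_isIntegral_of_isField' (Field.toIsField ℚ)

theorem free_int : Module.Free ℤ O := by
  have : Module.IsTorsionFree ℤ O := inferInstance
  exact Module.free_of_finite_type_torsion_free'

theorem finrank_tensor : Module.finrank ℚ (ℚ ⊗[ℤ] O) = Module.finrank ℤ O := by
  have := free_int O
  rw [Module.finrank_baseChange]

end alg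

section sub

variable {O : Type v} [CommRing O] [IsDomain O] [CharZero O] [Module.Finite ℤ O] {E : Type*} [Ring E]
  (θ : O →+* E)

/-- The map `ℚ ⊗ O → ℚ ⊗ E`. -/
noncomputable def fld : (ℚ ⊗[ℤ] O) →ₐ[ℚ] (ℚ ⊗[ℤ] E) :=
  Algebra.TensorProduct.map (AlgHom.id ℚ ℚ) θ.toIntAlgHom

include θ in
theorem exists_sub [Nontrivial (ℚ ⊗[ℤ] E)] : ∃ L : Subalgebra ℚ (ℚ ⊗[ℤ] E), IsField ↥L ∧ Module.Finite ℚ ↥L ∧
    Module.finrank ℚ ↥L = Module.finrank ℤ O := by
  have hf := isField_tensor O
  let _ : Field (ℚ ⊗[ℤ] O) := hf.toField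
  have hinj : Function.Injective (fld θ) := RingHom.injective (fld θ).toRingHom
  let e : (ℚ ⊗[ℤ] O) ≃ₐ[ℚ] (fld θ).range := AlgEquiv.ofInjective (fld θ) hinj
  refine ⟨(fld θ).range, MulEquiv.isField hf e.symm.toMulEquiv, Module.Finite.equiv e.toLinearEquiv, ?_⟩
  rw [← e.toLinearEquiv.finrank_eq]
  exact finrank_tensor O

end sub

section av

open CategoryTheory MonoidalCategory CartesianMonoidalCategory AlgebraicGeometry MonObj

variable {k : Type u} [Field k] (B : Over (Spec (CommRingCat.of k))) [GrpObj B] [IsCommMonObj B] [IsProper B.hom]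
  [GeometricallyIntegral B.hom] {g : ℕ} (hg : topologicalKrullDim B.left = g) (hg0 : g ≠ 0)

include hg hg0 in
/-- The identity of an abelian variety of positive dimension is not trivial. -/
theorem nontrivial_end : Nontrivial (EndAV.End B) := by
  refine ⟨1, 0, fun h => ?_⟩
  have h1 : 𝟙 B = (1 : B ⟶ B) := congrArg EndAV.End.toHom h
  have h2 : 𝟙 B.left = (toUnit B).left ≫ (η[B] : 𝟙_ _ ⟶ B).left := by
    have h3 := congrArg (fun t => t.left) h1
    exact h3
  have h4 : Subsingleton B.left := by
    refine ⟨fun x y => ?_⟩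
    have hx : ∀ z : B.left, z = (η[B] : 𝟙_ _ ⟶ B).left ((toUnit B).left z) := by
      intro z
      have := congrArg (fun t : B.left ⟶ B.left => t z) h2
      exact this
    have hs : Subsingleton ↥(Spec (CommRingCat.of k)) := inferInstanceAs (Subsingleton (PrimeSpectrum k))
    have hs' : Subsingleton ↥((𝟙_ (Over (Spec (CommRingCat.of k)))).left) := hs
    rw [hx x, hx y, Subsingleton.elim ((toUnit B).left x) ((toUnit B).left y)]
  have h5 : Subsingleton (TopologicalSpace.IrreducibleCloseds B.left) := by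
    refine ⟨fun s t => ?_⟩
    obtain ⟨x, hx⟩ := s.2.1
    obtain ⟨y, hy⟩ := t.2.1
    apply TopologicalSpace.IrreducibleCloseds.ext
    ext z
    exact ⟨fun _ => (Subsingleton.elim y z) ▸ hy, fun _ => (Subsingleton.elim x z) ▸ hx⟩
  have h6 : topologicalKrullDim B.left ≤ 0 := Order.krullDim_nonpos_of_subsingleton
  rw [hg] at h6
  exact hg0 (Nat.le_zero.1 (by exact_mod_cast h6))

include hg hg0 in
theorem nontrivial_end0 : Nontrivial (EndAV.End0 B) := by
  have h1 := nontrivial_end B hg hg0
  have h2 : Module.IsTorsionFree ℤ (EndAV.End B) := K520.HomFg.isTorsionFree_hom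
  have h3 : Function.Injective (EndAV.toEnd0 (A := B)) := by
    rw [injective_iff_map_eq_zero]
    intro e he
    obtain ⟨c, hc⟩ := (IsLocalizedModule.eq_zero_iff (nonZeroDivisors ℤ)
      (TensorProduct.mk ℤ ℚ (EndAV.End B) 1)).mp he
    exact (smul_eq_zero_iff_right (nonZeroDivisors.ne_zero c.2)).mp hc
  exact h3.nontrivial

end av

end K940.RedFld
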