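import Groth.Prelude.Def_SGA7IX
import Groth.Agent.Models.WeilChart
import Groth.Agent.Neron.K490.PullMap

/-!
# Proper smooth group schemes over a Dedekind domain are Néron models (any fraction field)
-/

set_option autoImplicit false
universe u
open CategoryTheory CategoryTheory.Limits AlgebraicGeometry MonObj

namespace K940.RedNer

/-- A proper smooth group scheme over a Dedekind domain `R` is a Néron model of its generic fibre,
for any field of fractions `K` of `R`. -/
theorem isNeron (R K : Type u) [CommRing R] [IsDedekindDomain R] [Field K] [Algebra R K]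
    [IsFractionRing R K] (N : Over (Spec (CommRingCat.of R))) [GrpObj N] [IsProper N.hom]
    [Smooth N.hom] : SGA7.IsNeron R K N := by
  have hG : GrpObj (Over.mk N.hom) := inferInstanceAs (GrpObj N)
  refine ⟨inferInstance, inferInstance, inferInstance, fun Y hY => ⟨?_, ?_⟩⟩
  · intro f g hfg
    have h1 := (K490.PullMap.pullback_map_eq_iff _ f g).mp hfg
    obtain ⟨u, -, hu⟩ := Groth.Agent.Models.WeilChart.existsUnique_extension N.hom Y.hom K
      (pullback.fst Y.hom (Spec.map (CommRingCat.ofHom (algebraMap R K))) ≫ f.left)
      (by rw [Category.assoc, Over.w f])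
    ext1
    rw [hu f.left ⟨Over.w f, rfl⟩, hu g.left ⟨Over.w g, h1.symm⟩]
  · intro φ
    obtain ⟨u, ⟨hu1, hu2⟩, -⟩ := Groth.Agent.Models.WeilChart.existsUnique_extension N.hom Y.hom
      K (φ.left ≫ pullback.fst N.hom (Spec.map (CommRingCat.ofHom (algebraMap R K)))) (by
        have h1 := Over.w φ
        change φ.left ≫ pullback.snd N.hom _ = pullback.snd Y.hom _ at h1
        rw [Category.assoc, pullback.condition, reassoc_of% h1, pullback.condition])
    refine ⟨Over.homMk u hu1, ?_⟩
    ext1
    apply pullback.hom_ext
    · rw [K490.PullMap.pullback_map_left_fst]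
      exact hu2
    · rw [K490.PullMap.pullback_map_left_snd]
      exact (Over.w φ).symm

end K940.RedNer
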