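import Groth.Agent.S4051
import Groth.Agent.S17457
import Groth.Agent.AbVar.K940.RedNer
import Groth.Agent.AbVar.K940.RedAlg
import Groth.Agent.AbVar.K940.RedFld
import Groth.Agent.Models.K378.GeomInt
import Mathlib.RingTheory.DedekindDomain.IntegralClosure

/-!
# Potential good reduction of abelian varieties with complex multiplication over number fields

`exists_model`: an abelian variety with complex multiplication over a number field extends, with its
complex multiplications, to an abelian scheme over a discrete valuation ring of a finite extension,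
above any given prime of a number field of coefficients.
-/

set_option autoImplicit false
universe u
open CategoryTheory CategoryTheory.Limits AlgebraicGeometry MonObj NumberField

namespace K940.RedGen

open Groth.Agent

/-- Semistable reduction passes to base changes. -/
theorem semistable_bc {R R' K₀ K K' : Type u} [CommRing R] [CommRing R'] [Field K₀] [Field K] [Algebra R K]
    [Field K'] [Algebra R' K'] (φ : R →+* R') (ψ : K →+* K')
    (hφψ : (algebraMap R' K').comp φ = ψ.comp (algebraMap R K)) (j : K₀ →+* K) (t : K₀ →+* K')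
    (ht : t = ψ.comp j) (A : Over (Spec (CommRingCat.of K₀))) [GrpObj A]
    (hss : SGA7.HasSemistableReduction R K (Red.bc (Spec.map (CommRingCat.ofHom j)) A)) :
    SGA7.HasSemistableReduction R' K' (Red.bc (Spec.map (CommRingCat.ofHom t)) A) := by
  obtain ⟨G, _, eG, heG, hsm, hsep, hqc, hur⟩ := hss
  let f : Spec (CommRingCat.of K') ⟶ Spec (CommRingCat.of K) := Spec.map (CommRingCat.ofHom ψ)
  let p : Spec (CommRingCat.of R') ⟶ Spec (CommRingCat.of R) := Spec.map (CommRingCat.ofHom φ)
  have hcomp : Spec.map (CommRingCat.ofHom (algebraMap R' K')) ≫ p =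
      f ≫ Spec.map (CommRingCat.ofHom (algebraMap R K)) := by
    change Spec.map _ ≫ Spec.map _ = Spec.map _ ≫ Spec.map _
    rw [← Spec.map_comp, ← Spec.map_comp, ← CommRingCat.ofHom_comp, ← CommRingCat.ofHom_comp, hφψ]
  have hcomp' : f ≫ Spec.map (CommRingCat.ofHom j) = Spec.map (CommRingCat.ofHom t) := by
    change Spec.map _ ≫ Spec.map _ = Spec.map _
    rw [← Spec.map_comp, ← CommRingCat.ofHom_comp, ht]
  let I : Grp.mk (Red.bc (Spec.map (CommRingCat.ofHom (algebraMap R' K'))) (Red.bc p G)) ≅
      Grp.mk (Red.bc (Spec.map (CommRingCat.ofHom t)) A) :=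
    (Sga3B.BcIso.bcCompIso (Spec.map (CommRingCat.ofHom (algebraMap R' K'))) p G).symm ≪≫
      Sga3B.BcIso.bcCongrIso hcomp G ≪≫
      Sga3B.BcIso.bcCompIso f (Spec.map (CommRingCat.ofHom (algebraMap R K))) G ≪≫
      Sga3B.BcIso.bcMapIso f (Grp.mkIso' eG) ≪≫
      (Sga3B.BcIso.bcCompIso f (Spec.map (CommRingCat.ofHom j)) A).symm ≪≫
      Sga3B.BcIso.bcCongrIso hcomp' A
  refine ⟨Red.bc p G, inferInstance, (Grp.forget _).mapIso I, I.hom.hom.isMonHom_hom,
    inferInstanceAs (Smooth (pullback.snd G.hom p)), inferInstanceAs (IsSeparated (pullback.snd G.hom p)),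
    inferInstanceAs (QuasiCompact (pullback.snd G.hom p)), ?_⟩
  exact Sga7.H738.RankZeroBc.fibresUnipotentRankZero_bc Sga7.H738.S4057Comm.l2 p G hur

/-- The dimension of an abelian variety is invariant under extensions of the base field. -/
theorem dim_bc {K K' : Type u} [Field K] [Field K'] (f : Spec (CommRingCat.of K') ⟶ Spec (CommRingCat.of K))
    (A : Over (Spec (CommRingCat.of K))) [GrpObj A] [IsProper A.hom] [GeometricallyIntegral A.hom] :
    topologicalKrullDim (Red.bc f A).left = topologicalKrullDim A.left := by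
  have gA : GrpObj (Over.mk A.hom) := ‹GrpObj A›
  have hsmA : Smooth A.hom := smooth_of_grpObj A.hom
  obtain ⟨n, hn⟩ := Sga7.H620.DimSmooth.exists_dim A
  have h1 := hn K' f
  have h2 := hn K (𝟙 _)
  have h3 : topologicalKrullDim (Red.bc (𝟙 (Spec (CommRingCat.of K))) A).left = topologicalKrullDim A.left :=
    SGA7.K566.CM.topologicalKrullDim_eq_of_iso (pullback.fst A.hom (𝟙 _))
  rw [h1, ← h2, h3]

section dvr

variable (D K : Type u) [CommRing D] [IsDomain D] [IsDiscreteValuationRing D] [Field K] [Algebra D K]
  [IsFractionRing D K] (A : Over (Spec (CommRingCat.of K))) [GrpObj A] [IsCommMonObj A] [IsProper A.hom]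
  [GeometricallyIntegral A.hom] {O : Type*} [CommRing O] (θ : O →+* EndAV.End A)

/-- Good reduction together with the endomorphisms: the abelian scheme extending `A` carries the ring of
endomorphisms of `A`. -/
theorem exists_ext (h : SGA7.HasGoodReduction D K A) :
    ∃ (B : Over (Spec (CommRingCat.of D))) (_ : GrpObj B) (_ : IsCommMonObj B) (_ : IsProper B.hom)
      (_ : Smooth B.hom) (_ : GeometricallyConnected B.hom)
      (e : Red.bc (Spec.map (CommRingCat.ofHom (algebraMap D K))) B ≅ A) (_ : IsMonHom e.hom)
      (Θ : O →+* EndAV.End B), ∀ b,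
        (Over.pullback (Spec.map (CommRingCat.ofHom (algebraMap D K)))).map (Θ b).toHom ≫ e.hom =
          e.hom ≫ (θ b).toHom := by
  obtain ⟨B, _, e, he, hprop, hsm, hconn⟩ := h
  have hN : SGA7.IsNeron D K B := RedNer.isNeron D K B
  have hel : IsIso e.hom.left := inferInstanceAs (IsIso ((Over.forget _).map e.hom))
  have hw : e.hom.left ≫ A.hom = ((SGA7.genFib D K).obj B).hom := Over.w e.hom
  have hP' : IsProper ((SGA7.genFib D K).obj B).hom := by
    rw [← hw]
    infer_instance
  have hG' : GeometricallyIntegral ((SGA7.genFib D K).obj B).hom := by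
    rw [← hw]
    have j1 : MorphismProperty.IsStableUnderBaseChange @GeometricallyIntegral.{u} := inferInstance
    have j2 : MorphismProperty.RespectsIso @GeometricallyIntegral.{u} :=
      MorphismProperty.IsStableUnderBaseChange.respectsIso
    exact (MorphismProperty.cancel_left_of_respectsIso @GeometricallyIntegral _ _).2 inferInstance
  have cN : IsCommMonObj B := Sga7.H751.SecRoot.isCommMonObj_of_isNeron D K B hN
  have cK' : IsCommMonObj ((SGA7.genFib D K).obj B) :=
    Sga7.H620.NOS.isCommMonObj_bc (Spec.map (CommRingCat.ofHom (algebraMap D K))) B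
  have hgc : GeometricallyConnected B.hom := by
    refine ⟨?_⟩
    intro K₁ _ y Z fst snd hpb
    have h1 : ConnectedSpace ↥(pullback B.hom y) := hconn K₁ y
    exact (Scheme.homeoOfIso hpb.isoPullback.symm).surjective.connectedSpace
      (Scheme.homeoOfIso hpb.isoPullback.symm).continuous
  let E := RingEquiv.ofBijective
    (SGA7.K566.EndBc.bcEnd (Spec.map (CommRingCat.ofHom (algebraMap D K))) B)
    (SGA7.K566.EndBc.bijective_bcEnd B hN)
  refine ⟨B, inferInstance, cN, hprop, hsm, hgc, e, he,
    (E.symm.toRingHom.comp (SGA7.K566.EndBc.conjEnd e)).comp θ, fun b => ?_⟩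
  have h1 : E (E.symm (SGA7.K566.EndBc.conjEnd e (θ b))) = SGA7.K566.EndBc.conjEnd e (θ b) :=
    E.apply_symm_apply _
  have h2 : (Over.pullback (Spec.map (CommRingCat.ofHom (algebraMap D K)))).map
      (E.symm (SGA7.K566.EndBc.conjEnd e (θ b))).toHom = e.hom ≫ (θ b).toHom ≫ e.inv :=
    congrArg EndAV.End.toHom h1
  change (Over.pullback (Spec.map (CommRingCat.ofHom (algebraMap D K)))).map
      (E.symm (SGA7.K566.EndBc.conjEnd e (θ b))).toHom ≫ e.hom = _
  rw [h2, Category.assoc, Category.assoc, e.inv_hom_id, Category.comp_id]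

end dvr

end K940.RedGen
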