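import Mathlib.Algebra.BigOperators.Group.Finset.Basic
import Mathlib.Data.Finset.Card
import Mathlib.Data.Fintype.Card
import Mathlib.Tactic

/-!
# Half-systems for a free involution with prescribed fibre counts
-/

set_option autoImplicit false

namespace K940.Comb

variable {I X : Type*} [DecidableEq I] [DecidableEq X] (τ : I → I) (σ : X → X) (π : I → X)

/-- Number of elements of `S` over `x`. -/
def cnt (S : Finset I) (x : X) : ℕ := (S.filter (fun i => π i = x)).card

theorem cnt_insert {S : Finset I} {i : I} (hi : i ∉ S) (x : X) :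
    cnt π (insert i S) x = (if π i = x then 1 else 0) + cnt π S x := by
  unfold cnt
  rw [Finset.filter_insert]
  split_ifs with h
  · rw [Finset.card_insert_of_notMem (fun hh => hi (Finset.mem_filter.1 hh).1)]
    ring
  · ring

variable (hτ : ∀ i, τ (τ i) = i) (hτ' : ∀ i, τ i ≠ i) (hσ : ∀ x, σ (σ x) = x) (hπ : ∀ i, π (τ i) = σ (π i))

include hτ hτ' hσ hπ in
theorem exists_half (S : Finset I) : ∀ (_ : ∀ i ∈ S, τ i ∈ S) (n : X → ℕ)
    (_ : ∀ x, n x + n (σ x) = cnt π S x),
    ∃ T : Finset I, T ⊆ S ∧ (∀ i ∈ S, i ∈ T ↔ τ i ∉ T) ∧ ∀ x, cnt π T x = n x := by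
  induction S using Finset.strongInduction with
  | H S ih =>
    intro hS n hn
    rcases S.eq_empty_or_nonempty with rfl | ⟨i₀, hi₀⟩
    · refine ⟨∅, Finset.Subset.refl _, by simp, fun x => ?_⟩
      have h1 := hn x
      simp only [cnt, Finset.filter_empty, Finset.card_empty] at h1 ⊢
      omega
    · -- choose a representative of the orbit over a point where `n` is positive
      have key : ∃ i ∈ S, 0 < n (π i) := by
        have h1 := hn (π i₀)
        have h2 : 0 < cnt π S (π i₀) := Finset.card_pos.2 ⟨i₀, Finset.mem_filter.2 ⟨hi₀, rfl⟩⟩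
        by_cases h3 : 0 < n (π i₀)
        · exact ⟨i₀, hi₀, h3⟩
        · refine ⟨τ i₀, hS i₀ hi₀, ?_⟩
          rw [hπ]
          omega
      obtain ⟨i, hi, hni⟩ := key
      let S' := (S.erase i).erase (τ i)
      have hiS' : i ∉ S' := by simp [S']
      have hτi : τ i ∈ S.erase i := Finset.mem_erase.2 ⟨hτ' i, hS i hi⟩
      have hS1 : insert (τ i) S' = S.erase i := Finset.insert_erase hτi
      have hS2 : insert i (insert (τ i) S') = S := by rw [hS1, Finset.insert_erase hi]
      have hlt : S' ⊂ S := by
        refine Finset.ssubset_iff_subset_ne.2 ⟨?_, ?_⟩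
        · exact (Finset.erase_subset _ _).trans (Finset.erase_subset _ _)
        · intro h
          exact hiS' (h ▸ hi)
      have hτiS' : τ i ∉ S' := Finset.notMem_erase _ _
      have hstab : ∀ j ∈ S', τ j ∈ S' := by
        intro j hj
        have h1 : j ≠ τ i := (Finset.mem_erase.1 hj).1
        have h2 : j ≠ i := (Finset.mem_erase.1 (Finset.mem_erase.1 hj).2).1
        have h3 : j ∈ S := (Finset.mem_erase.1 (Finset.mem_erase.1 hj).2).2
        refine Finset.mem_erase.2 ⟨fun h => h2 ?_, Finset.mem_erase.2 ⟨fun h => h1 ?_, hS j h3⟩⟩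
        · rw [← hτ j, h, hτ]
        · rw [← h, hτ]
      have hcnt : ∀ x, cnt π S x = (if π i = x then 1 else 0) + ((if σ (π i) = x then 1 else 0) + cnt π S' x) := by
        intro x
        have hi' : i ∉ insert (τ i) S' := by rw [hS1]; exact Finset.notMem_erase _ _
        conv_lhs => rw [← hS2]
        rw [cnt_insert π hi', cnt_insert π hτiS', hπ]
      let n' : X → ℕ := fun x => if π i = x then n x - 1 else n x
      have hn' : ∀ x, n x = (if π i = x then 1 else 0) + n' x := by
        intro x
        simp only [n']
        split_ifs with h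
        · subst h
          omega
        · omega
      have hsw : ∀ x, (π i = σ x) = (σ (π i) = x) := by
        intro x
        apply propext
        constructor
        · intro h
          rw [h, hσ]
        · intro h
          rw [← h, hσ]
      obtain ⟨T, hTS, hT1, hT2⟩ := ih S' hlt hstab n' (by
        intro x
        have h1 := hn x
        have h2 := hn' x
        have h3 := hn' (σ x)
        have h4 := hcnt x
        simp only [hsw] at h3
        omega)
      have hiT : i ∉ T := fun h => hiS' (hTS h)
      have hτiT : τ i ∉ T := fun h => hτiS' (hTS h)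
      refine ⟨insert i T, ?_, ?_, fun x => ?_⟩
      · intro j hj
        rcases Finset.mem_insert.1 hj with rfl | hj
        · exact hi
        · exact hlt.1 (hTS hj)
      · intro j hj
        rw [← hS2] at hj
        rcases Finset.mem_insert.1 hj with rfl | hj
        · simp [hτ' j, hτiT]
        · rcases Finset.mem_insert.1 hj with rfl | hj
          · simp [hτ, hτ' i, hτiT]
          · have h1 : j ≠ i := fun h => hiS' (h ▸ hj)
            have h2 : τ j ≠ i := fun h => hτiS' (by rw [← h, hτ]; exact hj)
            simp only [Finset.mem_insert, h1, h2, false_or]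
            exact hT1 j hj
      · rw [cnt_insert π hiT, hT2, hn' x]

end K940.Comb
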