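import Groth.Agent.AbVar.K940.Nt3a
import Groth.Agent.AbVar.K940.Comb
import Groth.Agent.AbVar.K511.HT.Iface

/-!
# Existence of a half-system of embeddings with prescribed fibre counts

Node `NT3` of the Honda–Tate decomposition.
-/

set_option autoImplicit false
open NumberField K511.HT

namespace K940.Nt3

variable {L : Type} [Field L]

/-- The involution induced on the ring of integers. -/
noncomputable def hat (c : L ≃+* L) : 𝓞 L ≃+* 𝓞 L := RingOfIntegers.mapRingEquiv c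

theorem hat_coe (c : L ≃+* L) (x : 𝓞 L) : ((hat c x : 𝓞 L) : L) = c (x : L) := rfl

theorem hat_hom (c : L ≃+* L) : RingOfIntegers.mapRingHom (c : L →+* L) = (hat c : 𝓞 L →+* 𝓞 L) := by
  ext x
  rfl

theorem hat_hat {c : L ≃+* L} (h : ∀ x, c (c x) = x) (x : 𝓞 L) : hat c (hat c x) = x := by
  apply RingOfIntegers.ext
  rw [hat_coe, hat_coe, h]

/-- The involution on ideals. -/
noncomputable def sg (c : L ≃+* L) (I : Ideal (𝓞 L)) : Ideal (𝓞 L) := I.comap (hat c : 𝓞 L →+* 𝓞 L)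

theorem mem_sg (c : L ≃+* L) (I : Ideal (𝓞 L)) (x : 𝓞 L) : x ∈ sg c I ↔ hat c x ∈ I := Iff.rfl

theorem sg_sg {c : L ≃+* L} (h : ∀ x, c (c x) = x) (I : Ideal (𝓞 L)) : sg c (sg c I) = I := by
  ext x
  rw [mem_sg, mem_sg, hat_hat h]

theorem sg_maximal (c : L ≃+* L) {I : Ideal (𝓞 L)} (hI : I.IsMaximal) : (sg c I).IsMaximal :=
  Ideal.comap_isMaximal_of_equiv (hat c)

theorem sg_pow (c : L ≃+* L) (I : Ideal (𝓞 L)) (k : ℕ) : sg c (I ^ k) = sg c I ^ k := by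
  have h : ∀ J : Ideal (𝓞 L), sg c J = J.map (hat c).symm := fun J => by
    rw [Ideal.map_symm]
    rfl
  rw [h, h, Ideal.map_pow]

theorem card_sg (c : L ≃+* L) (I : Ideal (𝓞 L)) : Nat.card (𝓞 L ⧸ sg c I) = Nat.card (𝓞 L ⧸ I) := by
  refine Nat.card_congr (Ideal.quotientEquiv (sg c I) I (hat c) ?_).toEquiv
  exact (Ideal.map_comap_of_surjective _ (hat c).surjective I).symm

theorem natCast_mem_sg (c : L ≃+* L) (I : Ideal (𝓞 L)) (p : ℕ) : (p : 𝓞 L) ∈ sg c I ↔ (p : 𝓞 L) ∈ I := by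
  rw [mem_sg, map_natCast]

theorem ord_sg [NumberField L] (c : L ≃+* L) {I : Ideal (𝓞 L)} (hI : I.IsMaximal) (hI0 : I ≠ ⊥) (hI1 : sg c I ≠ ⊥) {x : 𝓞 L}
    (hx : x ≠ 0) : ord (sg c I) x = ord I (hat c x) := by
  have hx' : hat c x ≠ 0 := (map_ne_zero_iff _ (hat c).injective).2 hx
  have h : ∀ k, k ≤ ord (sg c I) x ↔ k ≤ ord I (hat c x) := by
    intro k
    rw [ord, ord, ← K940.Nt3a.mem_pow_iff (sg_maximal c hI).isPrime hI1 hx,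
      ← K940.Nt3a.mem_pow_iff hI.isPrime hI0 hx', ← sg_pow, mem_sg]
  exact le_antisymm ((h _).1 le_rfl) ((h _).2 le_rfl)

open Classical in
theorem main : K511.HT.NT3 := by
  intro p hp L _ _ ϖ c hcϖ hcc _ hne M _ _ hcard 𝔓 h𝔓 hp𝔓
  have hpp : p.Prime := hp.out
  have hpL : (p : 𝓞 L) ≠ 0 := by exact_mod_cast hpp.ne_zero
  have hpϖ : hat c ϖ * ϖ = (p : 𝓞 L) := by
    apply RingOfIntegers.ext
    have h1 : algebraMap (𝓞 L) L (hat c ϖ * ϖ) = c (algebraMap (𝓞 L) L ϖ) * algebraMap (𝓞 L) L ϖ :=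
      map_mul (algebraMap (𝓞 L) L) _ _
    have h2 : algebraMap (𝓞 L) L (p : 𝓞 L) = (p : L) := map_natCast (algebraMap (𝓞 L) L) p
    exact h1.trans (hcϖ.trans h2.symm)
  have hϖ0 : ϖ ≠ 0 := right_ne_zero_of_mul (hpϖ ▸ hpL)
  have hϖ0' : hat c ϖ ≠ 0 := left_ne_zero_of_mul (hpϖ ▸ hpL)
  -- the combinatorial data
  let τ : (L →+* M) → (L →+* M) := fun φ => φ.comp (c : L →+* L)
  let σ : Ideal (𝓞 L) → Ideal (𝓞 L) := sg c
  let π : (L →+* M) → Ideal (𝓞 L) := fun φ => 𝔓.comap (RingOfIntegers.mapRingHom φ)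
  have hτ : ∀ φ, τ (τ φ) = φ := fun φ => by
    ext x
    exact congrArg φ (hcc x)
  have hτ' : ∀ φ, τ φ ≠ φ := fun φ h => by
    obtain ⟨x, hx⟩ := hne
    apply hx
    apply φ.injective
    exact congrArg (fun ψ : L →+* M => ψ x) h
  have hσ : ∀ I, σ (σ I) = I := sg_sg hcc
  have hπ : ∀ φ, π (τ φ) = σ (π φ) := fun φ => by
    ext x
    rfl
  have hπmax : ∀ φ, (π φ).IsMaximal ∧ (p : 𝓞 L) ∈ π φ := by
    intro φ
    have hpm : (p : 𝓞 L) ∈ π φ := by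
      change RingOfIntegers.mapRingHom φ (p : 𝓞 L) ∈ 𝔓
      rw [map_natCast]
      exact hp𝔓
    have hpr : (π φ).IsPrime := Ideal.comap_isPrime _ 𝔓
    refine ⟨hpr.isMaximal ?_, hpm⟩
    intro h0
    rw [h0] at hpm
    exact hpL (by simpa using hpm)
  -- the prescribed numbers
  have hex : ∀ 𝔭 : Ideal (𝓞 L), ∃ n : ℕ, (𝔭.IsMaximal ∧ (p : 𝓞 L) ∈ 𝔭 → Nat.card (𝓞 L ⧸ 𝔭) ^ ord 𝔭 ϖ = p ^ n) ∧
      (¬ (𝔭.IsMaximal ∧ (p : 𝓞 L) ∈ 𝔭) → n = 0) := by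
    intro 𝔭
    by_cases h : 𝔭.IsMaximal ∧ (p : 𝓞 L) ∈ 𝔭
    · obtain ⟨f, hf⟩ := K940.Nt3a.exists_card_eq hpp h.2
      exact ⟨f * ord 𝔭 ϖ, fun _ => by rw [hf, pow_mul], fun h' => absurd h h'⟩
    · exact ⟨0, fun h' => absurd h' h, fun _ => rfl⟩
  choose n hn1 hn2 using hex
  have hcnt : ∀ 𝔭, K940.Comb.cnt π Finset.univ 𝔭 = Nat.card {φ : L →+* M // π φ = 𝔭} := by
    intro 𝔭
    rw [K940.Comb.cnt, Nat.card_eq_fintype_card, Fintype.card_subtype]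
  have hn : ∀ 𝔭, n 𝔭 + n (σ 𝔭) = K940.Comb.cnt π Finset.univ 𝔭 := by
    intro 𝔭
    by_cases h : 𝔭.IsMaximal ∧ (p : 𝓞 L) ∈ 𝔭
    · have h' : (σ 𝔭).IsMaximal ∧ (p : 𝓞 L) ∈ σ 𝔭 := ⟨sg_maximal c h.1, (natCast_mem_sg c 𝔭 p).2 h.2⟩
      have h0 : 𝔭 ≠ ⊥ := by
        intro h0
        rw [h0] at h
        exact hpL (by simpa using h.2)
      have h0' : σ 𝔭 ≠ ⊥ := by
        intro h0
        rw [h0] at h'
        exact hpL (by simpa using h'.2)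
      apply Nat.pow_right_injective hpp.two_le
      change p ^ (n 𝔭 + n (σ 𝔭)) = p ^ _
      rw [hcnt, ← K940.Nt3a.card_fibre hcard hpp h𝔓 hp𝔓 h.1 h.2, pow_add, ← hn1 𝔭 h, ← hn1 (σ 𝔭) h', card_sg,
        ord_sg c h.1 h0 h0' hϖ0, ← pow_add, ← hpϖ, K940.Nt3a.ord_mul h.1.isPrime h0 hϖ0' hϖ0, add_comm]
      rfl
    · have h' : ¬ ((σ 𝔭).IsMaximal ∧ (p : 𝓞 L) ∈ σ 𝔭) := by
        intro h'
        apply h
        rw [← hσ 𝔭]
        exact ⟨sg_maximal c h'.1, (natCast_mem_sg c (σ 𝔭) p).2 h'.2⟩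
      rw [hn2 𝔭 h, hn2 (σ 𝔭) h', hcnt]
      symm
      rw [add_zero, Nat.card_eq_zero]
      left
      refine ⟨fun φ => h ?_⟩
      rw [← φ.2]
      exact hπmax φ.1
  obtain ⟨T, -, hT1, hT2⟩ := K940.Comb.exists_half τ σ π hτ hτ' hσ hπ Finset.univ (fun _ _ => Finset.mem_univ _) n hn
  refine ⟨{φ | φ ∈ T}, fun φ => hT1 φ (Finset.mem_univ φ), fun 𝔭 h𝔭 hp𝔭 => ?_⟩
  rw [hn1 𝔭 ⟨h𝔭, hp𝔭⟩, ← hT2 𝔭, K940.Comb.cnt, Nat.card_eq_fintype_card, Fintype.card_subtype]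
  congr 2
  ext φ
  simp [π]

end K940.Nt3
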