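import Groth.Agent.AbVar.K940.RedGen
import Groth.Agent.AbVar.K511.HT.Iface

/-!
# Potential good reduction of abelian varieties with complex multiplication over number fields: assembly
-/

set_option autoImplicit false
universe u
open CategoryTheory CategoryTheory.Limits AlgebraicGeometry MonObj NumberField

namespace K940.RedMain

open Groth.Agent

/-- An abelian variety with complex multiplication over a number field extends, together with its complex
multiplications, to an abelian scheme over a discrete valuation ring of a finite extension, above any given prime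
of a number field of coefficients. -/
theorem exists_model {F : Type u} [Field F] [NumberField F] (B : Over (Spec (CommRingCat.of F)))
    [GrpObj B] [IsCommMonObj B] [IsProper B.hom] [GeometricallyIntegral B.hom] {g : ℕ}
    (hg : topologicalKrullDim B.left = g) {O : Type*} [CommRing O] [IsDomain O] [CharZero O]
    [Module.Finite ℤ O] (hO : Module.finrank ℤ O = 2 * g) (θ : O →+* EndAV.End B)
    {M : Type*} [Field M] [NumberField M] (i : M →+* F) (P : Ideal (𝓞 M)) [P.IsMaximal] :
    ∃ (D : Type u) (_ : CommRing D) (_ : IsDomain D) (_ : IsDiscreteValuationRing D) (_ : CharZero D)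
      (t : F →+* FractionRing D) (r : 𝓞 M →+* D),
      (algebraMap D (FractionRing D)).comp r = (t.comp i).comp (algebraMap (𝓞 M) M) ∧
      (IsLocalRing.maximalIdeal D).comap r = P ∧
      Finite (IsLocalRing.ResidueField D) ∧
      ∃ (𝓑 : Over (Spec (CommRingCat.of D))) (_ : GrpObj 𝓑) (_ : IsCommMonObj 𝓑) (_ : IsProper 𝓑.hom)
        (_ : Smooth 𝓑.hom) (_ : GeometricallyConnected 𝓑.hom)
        (e : Red.bc (Spec.map (CommRingCat.ofHom (algebraMap D (FractionRing D)))) 𝓑 ≅
          Red.bc (Spec.map (CommRingCat.ofHom t)) B) (_ : IsMonHom e.hom)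
        (Θ : O →+* EndAV.End 𝓑), ∀ b,
          (Over.pullback (Spec.map (CommRingCat.ofHom (algebraMap D (FractionRing D))))).map (Θ b).toHom ≫ e.hom =
            e.hom ≫ (Over.pullback (Spec.map (CommRingCat.ofHom t))).map (θ b).toHom := by
  obtain ⟨F', _, _, _, _, _, _, hss⟩ := Groth.Agent.S4051.result (𝓞 F) F B
  -- the field `F'` is a number field and the integral closure is a Dedekind domain finite over `ℤ`
  have hchar : CharZero F' := charZero_of_injective_algebraMap (algebraMap F F').injective
  have hst1 : IsScalarTower ℚ F F' := inferInstance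
  have hfin1 : Module.Finite ℚ F' := Module.Finite.trans F F'
  have hded : IsDedekindDomain (integralClosure (𝓞 F) F') := integralClosure.isDedekindDomain (𝓞 F) F F'
  have hfr : IsFractionRing (integralClosure (𝓞 F) F') F' :=
    integralClosure.isFractionRing_of_finite_extension F F'
  have hfin2 : Module.Finite (𝓞 F) (integralClosure (𝓞 F) F') :=
    IsIntegralClosure.finite (𝓞 F) F F' _
  have hfin3 : Module.Finite ℤ (integralClosure (𝓞 F) F') := Module.Finite.trans (𝓞 F) _
  let j : F →+* F' := algebraMap F F'
  obtain ⟨D, _, _, _, _, _, φ, r, hφ, hr, hker, hfinD⟩ :=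
    RedAlg.exists_dvr (R := integralClosure (𝓞 F) F') (F := F') (j.comp i) P
  -- the comparison of fraction fields
  let ψ : F' ≃ₐ[D] FractionRing D := (FractionRing.algEquiv D F').symm
  have hψ : (ψ : F' →+* FractionRing D).comp (algebraMap D F') = algebraMap D (FractionRing D) :=
    RingHom.ext fun x => ψ.commutes x
  let t : F →+* FractionRing D := (ψ : F' →+* FractionRing D).comp j
  have hcharD : CharZero D := by
    refine ⟨fun a b hab => ?_⟩
    have h1 : ((a : D) : D) = (b : D) := hab
    have h2 := congrArg (algebraMap D F') h1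
    rw [map_natCast, map_natCast] at h2
    exact_mod_cast h2
  -- good reduction
  have hssD : SGA7.HasSemistableReduction D (FractionRing D) (Red.bc (Spec.map (CommRingCat.ofHom t)) B) :=
    RedGen.semistable_bc φ (ψ : F' →+* FractionRing D) (by rw [← hφ, ← RingHom.comp_assoc, hψ]) j t rfl B hss
  have hcm : IsCommMonObj (Red.bc (Spec.map (CommRingCat.ofHom t)) B) := Sga7.H620.NOS.isCommMonObj_bc _ B
  have hP : IsProper (Red.bc (Spec.map (CommRingCat.ofHom t)) B).hom :=
    inferInstanceAs (IsProper (pullback.snd B.hom _))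
  have hG : GeometricallyIntegral (Red.bc (Spec.map (CommRingCat.ofHom t)) B).hom :=
    inferInstanceAs (GeometricallyIntegral (pullback.snd B.hom _))
  have hg' : topologicalKrullDim (Red.bc (Spec.map (CommRingCat.ofHom t)) B).left = g := by
    rw [RedGen.dim_bc, hg]
  have hg0 : g ≠ 0 := by
    rintro rfl
    have := RedFld.free_int O
    have h1 : Module.finrank ℤ O ≠ 0 := Module.finrank_pos.ne'
    omega
  let θ' : O →+* EndAV.End (Red.bc (Spec.map (CommRingCat.ofHom t)) B) :=
    (SGA7.K566.EndBc.bcEnd (Spec.map (CommRingCat.ofHom t)) B).comp θ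
  have hnt : Nontrivial (EndAV.End0 (Red.bc (Spec.map (CommRingCat.ofHom t)) B)) :=
    RedFld.nontrivial_end0 _ hg' hg0
  obtain ⟨L, hL, hLfin, hLdeg⟩ := RedFld.exists_sub θ'
  have hgood : SGA7.HasGoodReduction D (FractionRing D) (Red.bc (Spec.map (CommRingCat.ofHom t)) B) :=
    Groth.Agent.S17457.result D (FractionRing D) _ g hg' L hL hLfin (hLdeg.trans hO) hssD
  obtain ⟨𝓑, h1, h2, h3, h4, h5, e, he, Θ, hΘ⟩ := RedGen.exists_ext D (FractionRing D) _ θ' hgood
  refine ⟨D, inferInstance, inferInstance, inferInstance, hcharD, t, r, ?_, ?_, hfinD, 𝓑, h1, h2, h3, h4, h5,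
    e, he, Θ, hΘ⟩
  · rw [← hψ, RingHom.comp_assoc, hr]
    rfl
  · rw [← hker]
    ext x
    rw [Ideal.mem_comap, RingHom.mem_ker, RingHom.comp_apply, IsLocalRing.residue_eq_zero_iff]

/-- The node `RED` of the proof of the Honda–Tate theorem. -/
theorem main : K511.HT.RED.{u} := by
  intro M _ _ 𝔓 _ K _ _ _ j A _ _ _ _ g hg L _ _ hL ρ _
  obtain ⟨V, _, _, _, hV, t, jV, h1, h2, h3, X, _, _, hp, hs, hc, e, he, ρ', h4⟩ :=
    exists_model A hg (O := 𝓞 L) (by rw [RingOfIntegers.rank, hL]) ρ j 𝔓
  refine ⟨V, inferInstance, inferInstance, inferInstance, hV, h3, jV, t, X, inferInstance, inferInstance,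
    ⟨hs, hp, hc, fun s => ?_⟩, ρ', e, he, fun x => ?_, h2, h4⟩
  · obtain ⟨n, hn⟩ := Sga7.H620.DimSmooth.exists_dim X
    have h5 := hn (FractionRing V) (Spec.map (CommRingCat.ofHom (algebraMap V (FractionRing V))))
    have h6 := hn ((Spec (CommRingCat.of V)).residueField s) ((Spec (CommRingCat.of V)).fromSpecResidueField s)
    have h7 : topologicalKrullDim (Red.bc (Spec.map (CommRingCat.ofHom (algebraMap V (FractionRing V)))) X).left =
        topologicalKrullDim (Red.bc (Spec.map (CommRingCat.ofHom t)) A).left :=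
      SGA7.K566.CM.topologicalKrullDim_eq_of_iso e.hom.left
    have h8 : (n : WithBot ℕ∞) = g := by
      rw [← h5, h7, RedGen.dim_bc, hg]
    rw [← h8]
    exact h6
  · exact congrArg (fun u : 𝓞 M →+* FractionRing V => u x) h1

end K940.RedMain
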