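import Groth.Agent.AbVar.K525.RankB

/-!
# The commutant of Frobenius is generated by Frobenius up to isogeny

`main`: if the Frobenius of an abelian variety `B` over a finite field has minimal polynomial `P` of degree
`2 dim B`, every endomorphism of `B` is, up to an integer, a polynomial in Frobenius.
-/

set_option autoImplicit false

universe u

open CategoryTheory MonoidalCategory CartesianMonoidalCategory MonObj GrpObj AlgebraicGeometry Limits Polynomial
open TensorProduct

namespace K940.LatComm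

open K525.AlgC K525.OrdC K525.AVC K525.Conv K520.Frob K522.VRep K525.Lin K525.RankA K525.RankB

section linear

variable {K V : Type*} [Field K] [AddCommGroup V] [Module K V]

/-- A polynomial with prescribed low coefficients. -/
theorem sum_natDegree_lt {R : Type*} [CommRing R] (d : ℕ) (c : Fin d → R) (P : R[X]) (hP : P.Monic) (hd : d ≤ P.natDegree)
    (h : P ∣ ∑ i : Fin d, C (c i) * X ^ (i : ℕ)) : c = 0 := by
  rcases subsingleton_or_nontrivial R with hR | hR
  · exact Subsingleton.elim _ _
  have hcoeff : ∀ m : ℕ, (∑ i : Fin d, C (c i) * X ^ (i : ℕ)).coeff m = ∑ i : Fin d, if m = (i : ℕ) then c i else 0 := by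
    intro m
    rw [Polynomial.finsetSum_coeff]
    refine Finset.sum_congr rfl fun i _ => ?_
    rw [Polynomial.coeff_C_mul_X_pow]
  have h6 : (∑ i : Fin d, C (c i) * X ^ (i : ℕ)) = 0 := by
    by_contra hne
    refine hP.not_dvd_of_degree_lt hne ?_ h
    rw [Polynomial.degree_eq_natDegree hP.ne_zero, Polynomial.degree_lt_iff_coeff_zero]
    intro m hm
    rw [hcoeff]
    refine Finset.sum_eq_zero fun i _ => ?_
    rw [if_neg]
    have := i.2
    omega
  funext i
  have h7 := hcoeff i
  rw [h6, Polynomial.coeff_zero, Finset.sum_eq_single i] at h7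
  · rw [if_pos rfl] at h7
    exact h7.symm
  · intro j _ hij
    rw [if_neg]
    intro h
    exact hij (Fin.ext h.symm)
  · intro h
    exact absurd (Finset.mem_univ _) h

/-- The commutant of a cyclic endomorphism. -/
theorem finrank_inter_le [FiniteDimensional K V] (g : Module.End K V)
    (hmin : Module.finrank K V ≤ (minpoly K g).natDegree) : Module.finrank K (inter g g) ≤ Module.finrank K V := by
  obtain ⟨w, hw⟩ := exists_vec g
  set d := Module.finrank K V with hd
  have hli : LinearIndependent K (fun i : Fin d => (g ^ (i : ℕ)) w) := by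
    rw [Fintype.linearIndependent_iff]
    intro c hc
    have h1 : aeval g (∑ i : Fin d, C (c i) * X ^ (i : ℕ)) w = 0 := by
      rw [map_sum, LinearMap.sum_apply, ← hc]
      refine Finset.sum_congr rfl fun i _ => ?_
      rw [map_mul, aeval_C, map_pow, aeval_X, Module.End.mul_apply, Module.algebraMap_end_apply]
    have h2 := sum_natDegree_lt d c _ (minpoly.monic (Algebra.IsIntegral.isIntegral g)) hmin (hw _ h1)
    intro i
    rw [h2, Pi.zero_apply]
  have hspan : Submodule.span K (Set.range (fun i : Fin d => (g ^ (i : ℕ)) w)) = ⊤ :=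
    hli.span_eq_top_of_card_eq_finrank' (by rw [Fintype.card_fin])
  let Φ : inter g g →ₗ[K] V :=
    { toFun := fun u => u.1 w
      map_add' := fun _ _ => rfl
      map_smul' := fun _ _ => rfl }
  have hΦ : Function.Injective Φ := by
    rw [injective_iff_map_eq_zero]
    intro u hu
    have hu0 : u.1 w = 0 := hu
    have h1 : ∀ n : ℕ, u.1 ((g ^ n) w) = (g ^ n) (u.1 w) := by
      intro n
      induction n with
      | zero => rfl
      | succ n ih => rw [pow_succ', Module.End.mul_apply, Module.End.mul_apply, mem_inter.1 u.2, ih]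
    apply Subtype.ext
    apply LinearMap.ext_on hspan
    rintro _ ⟨i, rfl⟩
    change u.1 ((g ^ (i : ℕ)) w) = 0
    rw [h1, hu0, map_zero]
  exact LinearMap.finrank_le_finrank_of_injective hΦ

end linear

theorem map_aeval {R S : Type*} [Ring R] [Ring S] [Algebra ℤ R] (σ : R →+* S) (x : R) (Q : ℤ[X]) :
    σ (aeval x Q) = eval₂ (Int.castRingHom S) (σ x) Q := by
  rw [aeval_def, hom_eval₂]
  congr 1
  exact RingHom.ext_int _ _

theorem eval₂_C_mul' {R : Type*} [Ring R] (x : R) (a : ℤ) (Q : ℤ[X]) :
    eval₂ (Int.castRingHom R) x (C a * Q) = a • eval₂ (Int.castRingHom R) x Q := by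
  have h := map_mul (eval₂RingHom' (Int.castRingHom R) x fun n => Int.cast_commute n x) (C a) Q
  simp only [eval₂RingHom'_apply, eval₂_C] at h
  rw [h, eq_intCast, zsmul_eq_mul]

theorem eval₂_sum' {R : Type*} [Ring R] (x : R) (d : ℕ) (c : Fin d → ℤ) :
    eval₂ (Int.castRingHom R) x (∑ i : Fin d, C (c i) * X ^ (i : ℕ) : ℤ[X]) = ∑ i : Fin d, c i • x ^ (i : ℕ) := by
  rw [eval₂_finsetSum]
  refine Finset.sum_congr rfl fun i _ => ?_
  rw [eval₂_C_mul', eval₂_X_pow]

/-- A family made of `f` and the first powers of `F` is independent if no multiple of `f` is a polynomial in `F`. -/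
theorem linInd_cons {R : Type*} [Ring R] (F f : R) (P : ℤ[X]) (hP : P.Monic)
    (h0 : ∀ Q : ℤ[X], eval₂ (Int.castRingHom R) F Q = 0 → P ∣ Q)
    (hcon : ∀ n : ℕ, n ≠ 0 → ∀ Q : ℤ[X], n • f ≠ eval₂ (Int.castRingHom R) F Q) :
    LinearIndependent ℤ (Fin.cons f (fun i : Fin P.natDegree => F ^ (i : ℕ)) : Fin (P.natDegree + 1) → R) := by
  rw [Fintype.linearIndependent_iff]
  intro c hc
  rw [Fin.sum_univ_succ] at hc
  simp only [Fin.cons_zero, Fin.cons_succ] at hc
  rw [← eval₂_sum' F P.natDegree (fun i => c i.succ)] at hc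
  have h1 : c 0 = 0 := by
    by_contra hne
    apply hcon (c 0).natAbs (Int.natAbs_ne_zero.2 hne)
      (C (-(c 0).sign) * (∑ i : Fin P.natDegree, C (c i.succ) * X ^ (i : ℕ)))
    rw [eval₂_C_mul', neg_smul, ← smul_neg, ← eq_neg_of_add_eq_zero_left hc, ← natCast_zsmul,
      ← Int.sign_mul_self_eq_natAbs, mul_smul]
  rw [h1, zero_smul, zero_add] at hc
  have h2 := sum_natDegree_lt P.natDegree (fun i => c i.succ) P hP le_rfl (h0 _ hc)
  intro i
  refine Fin.cases h1 (fun j => ?_) i
  exact congrFun h2 j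

variable {p : ℕ} {k : Type u} [Field k] [Finite k]

/-- **Endomorphisms are polynomials in Frobenius, up to an integer.** -/
theorem main (_hk : Nat.card k = p) {B : Alg k} (hB : IsAV B) (P : ℤ[X]) (hP : P.Monic)
    (_hsq : Squarefree (P.map (Int.castRingHom ℚ)))
    (hdim : ∀ n : ℕ, n ≠ 0 → ord (kernel (n • 𝟙 B)) = n ^ P.natDegree)
    (h0 : ∀ Q : ℤ[X], aeval (End.of (frC B)) Q = 0 ↔ P ∣ Q) :
    ∀ f : B ⟶ B, ∃ n : ℕ, n ≠ 0 ∧ ∃ Q : ℤ[X], n • f = aeval (End.of (frC B)) Q := by
  have i1 := hB.1
  have i2 := hB.2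
  intro f
  by_contra hcon
  push Not at hcon
  obtain ⟨l, hl, hlk⟩ := exists_prime k
  have : Fact l.Prime := ⟨hl⟩
  let Ω := AlgebraicClosure k
  let A : Over (Spec (CommRingCat.of k)) := B.obj.X
  let ε : End B ≃+* EndAV.End A := endE A
  have f1 := K522.FFThm.finite_tate (l := l) Ω hlk A
  have f2 := K522.FFThm.free_tate (l := l) Ω hlk A
  obtain ⟨g, hg⟩ := exists_dim B
  have hd : P.natDegree = 2 * g := by
    have h1 := hdim 2 two_ne_zero
    rw [ord_torsion hB hg (m := 2) two_ne_zero] at h1
    exact (Nat.pow_right_injective le_rfl h1).symm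
  have hrank : Module.finrank ℚ_[l] (Vl l (SGA7.pt (K := k) Ω) A) = P.natDegree := by
    rw [Module.finrank_baseChange, K515.TateRank.finrank_eq Ω A l hlk g hg, hd]
  let F : EndAV.End A := EndAV.End.of (fr k A)
  let G := vRep l (SGA7.pt Ω) A F
  have hεF : ε (End.of (frC B)) = F := rfl
  have hε : ∀ Q : ℤ[X], ε (aeval (End.of (frC B)) Q) = eval₂ (Int.castRingHom _) F Q := fun Q => by
    rw [← hεF]
    exact map_aeval (ε : End B →+* EndAV.End A) (End.of (frC B)) Q
  have hli : LinearIndependent ℤ (Fin.cons (ε (End.of f)) (fun i : Fin P.natDegree => F ^ (i : ℕ)) :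
      Fin (P.natDegree + 1) → EndAV.End A) := by
    apply linInd_cons F (ε (End.of f)) P hP
    · intro Q hQ
      rw [← h0]
      apply ε.injective
      rw [hε, hQ, map_zero]
    · intro n hn Q hQ
      apply hcon n hn Q
      apply ε.injective
      rw [hε, ← hQ]
      exact map_nsmul ε n _
  -- images in the rational representation
  let e : Fin (P.natDegree + 1) → EndAV.End A :=
    Fin.cons (ε (End.of f)) (fun i : Fin P.natDegree => F ^ (i : ℕ))
  have h1 := K522.Bridge.linearIndependent (l := l) Ω hlk (X := A) (Y := A) e hli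
  have htf : Module.IsTorsionFree ℤ_[l] (AbDual.TateMod A l (SGA7.pt (K := k) Ω)) := inferInstance
  have h3 := h1.map' (LinearMap.baseChangeHom ℤ_[l] ℚ_[l] _ _) (LinearMap.ker_eq_bot.mpr baseChange_injective)
  have h4 : LinearIndependent ℚ_[l] (fun i => vRep l (SGA7.pt (K := k) Ω) A (e i)) :=
    (LinearIndependent.iff_fractionRing ℤ_[l] ℚ_[l]).mp h3
  -- the powers of Frobenius
  have h5 : LinearIndependent ℚ_[l] (fun i : Fin P.natDegree => G ^ (i : ℕ)) := by
    have h6 := h4.comp Fin.succ (Fin.succ_injective _)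
    have h7 : (fun i : Fin P.natDegree => G ^ (i : ℕ)) =
        (fun i => vRep l (SGA7.pt (K := k) Ω) A (e i)) ∘ Fin.succ := by
      funext i
      change (vRep l (SGA7.pt (K := k) Ω) A F) ^ (i : ℕ) = vRep l (SGA7.pt (K := k) Ω) A (F ^ (i : ℕ))
      rw [map_pow]
    rw [h7]
    exact h6
  have hmin : Module.finrank ℚ_[l] (Vl l (SGA7.pt (K := k) Ω) A) ≤ (minpoly ℚ_[l] G).natDegree := by
    rw [hrank]
    by_contra hlt
    rw [not_le] at hlt
    rw [Fintype.linearIndependent_iff] at h5
    have h6 : ∑ i : Fin P.natDegree, (minpoly ℚ_[l] G).coeff i • G ^ (i : ℕ) = 0 := by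
      rw [Fin.sum_univ_eq_sum_range (fun i => (minpoly ℚ_[l] G).coeff i • G ^ i), ← Polynomial.aeval_eq_sum_range' hlt]
      exact minpoly.aeval _ _
    have h7 := h5 _ h6 ⟨(minpoly ℚ_[l] G).natDegree, hlt⟩
    have h8 : (minpoly ℚ_[l] G).coeff (minpoly ℚ_[l] G).natDegree = 1 :=
      minpoly.monic (Algebra.IsIntegral.isIntegral G)
    rw [h8] at h7
    exact one_ne_zero h7
  have hle := finrank_inter_le G hmin
  rw [hrank] at hle
  -- all the images commute with Frobenius
  have hcomm : ∀ i, vRep l (SGA7.pt (K := k) Ω) A (e i) ∈ inter G G := by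
    intro i
    have hF : ∀ x : EndAV.End A, F * x = x * F := fun x => by
      obtain ⟨y, rfl⟩ := ε.surjective x
      rw [← hεF, ← map_mul, ← map_mul]
      congr 1
      exact (frC_comm (y : B ⟶ B)).symm
    rw [mem_inter]
    intro x
    have h8 := congrArg (vRep l (SGA7.pt (K := k) Ω) A) (hF (e i))
    rw [map_mul, map_mul] at h8
    exact (LinearMap.congr_fun h8 x).symm
  have h9 : LinearIndependent ℚ_[l] (fun i => (⟨_, hcomm i⟩ : inter G G)) := by
    apply LinearIndependent.of_comp (inter G G).subtype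
    exact h4
  have h10 := h9.fintype_card_le_finrank
  rw [Fintype.card_fin] at h10
  omega

end K940.LatComm
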