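import Mathlib.NumberTheory.NumberField.Norm
import Mathlib.NumberTheory.NumberField.InfinitePlace.Embeddings
import Mathlib.RingTheory.Ideal.Norm.AbsNorm
import Mathlib.RingTheory.Ideal.Quotient.HasFiniteQuotients
import Mathlib.RingTheory.Multiplicity
import Mathlib.RingTheory.DedekindDomain.Ideal.Lemmas
import Mathlib.FieldTheory.Finite.Basic
import Mathlib.FieldTheory.IsAlgClosed.AlgebraicClosure

/-!
# Counting embeddings over a prime

`card_fibre`: if a number field `M` receives `[L : ℚ]` embeddings of `L` and `𝔓` is a maximal ideal of `𝓞 M` over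
`p`, then the number of embeddings `φ` with `φ⁻¹(𝔓) = 𝔭` is the local degree of `L` at `𝔭`.
-/

set_option autoImplicit false
open NumberField

namespace K940.Nt3a

section dedekind

variable {R : Type*} [CommRing R] [IsDedekindDomain R] {P : Ideal R}

theorem finiteMult (hP : P.IsPrime) (hP0 : P ≠ ⊥) {x : R} (hx : x ≠ 0) : FiniteMultiplicity P (Ideal.span {x}) := by
  apply FiniteMultiplicity.of_prime_left (Ideal.prime_of_isPrime hP0 hP)
  rw [Ne, Ideal.zero_eq_bot, Ideal.span_singleton_eq_bot]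
  exact hx

theorem mem_pow_iff (hP : P.IsPrime) (hP0 : P ≠ ⊥) {x : R} (hx : x ≠ 0) (k : ℕ) :
    x ∈ P ^ k ↔ k ≤ multiplicity P (Ideal.span {x}) := by
  rw [← Ideal.dvd_span_singleton]
  exact (finiteMult hP hP0 hx).pow_dvd_iff_le_multiplicity

theorem ord_mul (hP : P.IsPrime) (hP0 : P ≠ ⊥) {x y : R} (hx : x ≠ 0) (hy : y ≠ 0) :
    multiplicity P (Ideal.span {x * y}) = multiplicity P (Ideal.span {x}) + multiplicity P (Ideal.span {y}) := by
  have h1 := finiteMult hP hP0 (mul_ne_zero hx hy)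
  rw [← Ideal.span_singleton_mul_span_singleton] at h1 ⊢
  exact multiplicity_mul (Ideal.prime_of_isPrime hP0 hP) h1

theorem ord_eq_zero {x : R} (hx : x ∉ P) :
    multiplicity P (Ideal.span {x}) = 0 := by
  rw [multiplicity_eq_zero, Ideal.dvd_span_singleton]
  exact hx

theorem ord_prod (hP : P.IsPrime) (hP0 : P ≠ ⊥) {ι : Type*} (s : Finset ι) (f : ι → R) (hf : ∀ i ∈ s, f i ≠ 0) :
    multiplicity P (Ideal.span {∏ i ∈ s, f i}) = ∑ i ∈ s, multiplicity P (Ideal.span {f i}) := by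
  classical
  induction s using Finset.induction_on with
  | empty =>
    rw [Finset.prod_empty, Finset.sum_empty]
    exact ord_eq_zero ((Ideal.ne_top_iff_one _).1 hP.ne_top)
  | insert a s ha ih =>
    rw [Finset.prod_insert ha, Finset.sum_insert ha, ord_mul hP hP0 (hf a (Finset.mem_insert_self a s))
      (Finset.prod_ne_zero_iff.2 fun i hi => hf i (Finset.mem_insert_of_mem hi)),
      ih fun i hi => hf i (Finset.mem_insert_of_mem hi)]

theorem ord_pow (hP : P.IsPrime) (hP0 : P ≠ ⊥) {x : R} (hx : x ≠ 0) (k : ℕ) :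
    multiplicity P (Ideal.span {x ^ k}) = k * multiplicity P (Ideal.span {x}) := by
  have h := ord_prod hP hP0 (Finset.range k) (fun _ => x) (fun _ _ => hx)
  simpa using h

/-- The factor of `(x)` prime to `P`. -/
theorem exists_factor (hP : P.IsPrime) (hP0 : P ≠ ⊥) {x : R} (hx : x ≠ 0) :
    ∃ B : Ideal R, Ideal.span {x} = P ^ multiplicity P (Ideal.span {x}) * B ∧ ¬ B ≤ P := by
  obtain ⟨B, hB, hB'⟩ := (finiteMult hP hP0 hx).exists_eq_pow_mul_and_not_dvd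
  exact ⟨B, hB, fun h => hB' (Ideal.dvd_iff_le.2 h)⟩

/-- If `ord x ≤ ord y` then `s y` is a multiple of `x` for some `s` outside `P`. -/
theorem exists_mul (hP : P.IsPrime) (hP0 : P ≠ ⊥) {x y : R} (hx : x ≠ 0) (hy : y ≠ 0)
    (h : multiplicity P (Ideal.span {x}) ≤ multiplicity P (Ideal.span {y})) : ∃ s t : R, s ∉ P ∧ s * y = x * t := by
  obtain ⟨B, hB, hB'⟩ := exists_factor hP hP0 hx
  obtain ⟨s, hs, hsP⟩ := SetLike.not_le_iff_exists.1 hB'
  have h1 : y ∈ P ^ multiplicity P (Ideal.span {x}) := (mem_pow_iff hP hP0 hy _).2 h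
  have h2 : y * s ∈ Ideal.span {x} := by
    rw [hB]
    exact Ideal.mul_mem_mul h1 hs
  obtain ⟨t, ht⟩ := Ideal.mem_span_singleton'.1 h2
  exact ⟨s, t, hsP, by rw [mul_comm s y, ← ht, mul_comm]⟩

/-- An element with the same order as `x` at `P` and outside the other primes containing `x`. -/
theorem exists_elt (hP : P.IsMaximal) (hP0 : P ≠ ⊥) {x : R} (hx : x ≠ 0) :
    ∃ y : R, y ≠ 0 ∧ multiplicity P (Ideal.span {y}) = multiplicity P (Ideal.span {x}) ∧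
      ∀ Q : Ideal R, Q.IsMaximal → x ∈ Q → Q ≠ P → y ∉ Q := by
  have hPp := hP.isPrime
  obtain ⟨B, hB, hB'⟩ := exists_factor hPp hP0 hx
  set e := multiplicity P (Ideal.span {x}) with he
  obtain ⟨z, hz, hz'⟩ : ∃ z ∈ P ^ e, z ∉ P ^ (e + 1) :=
    ⟨x, (mem_pow_iff hPp hP0 hx _).2 le_rfl, fun h => by
      have := (mem_pow_iff hPp hP0 hx _).1 h
      omega⟩
  have hcop : IsCoprime B (P ^ (e + 1)) := by
    apply IsCoprime.pow_right
    rw [Ideal.isCoprime_iff_sup_eq]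
    by_contra hne
    have h1 : P ≤ B ⊔ P := le_sup_right
    have h2 := hP.eq_of_le hne h1
    exact hB' (h2 ▸ le_sup_left)
  obtain ⟨b, hb, c, hc, hbc⟩ := Ideal.isCoprime_iff_exists.1 hcop
  -- `y = b z + c`
  have hy1 : b * z + c - z ∈ P ^ (e + 1) := by
    have : b * z + c - z = c * (1 - z) := by
      have hb' : b = 1 - c := by rw [← hbc]; ring
      rw [hb']
      ring
    rw [this]
    exact Ideal.mul_mem_right _ _ hc
  have hy2 : b * z + c - 1 ∈ B := by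
    have : b * z + c - 1 = b * (z - 1) := by
      have hc' : c = 1 - b := by rw [← hbc]; ring
      rw [hc']
      ring
    rw [this]
    exact Ideal.mul_mem_right _ _ hb
  have hyP : b * z + c ∈ P ^ e := by
    have h1 := Ideal.pow_le_pow_right (I := P) (Nat.le_succ e) hy1
    have h2 := add_mem h1 hz
    simpa using h2
  have hyP' : b * z + c ∉ P ^ (e + 1) := fun h => hz' (by
    have h2 := sub_mem h hy1
    simpa using h2)
  have hy0 : b * z + c ≠ 0 := by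
    intro h
    rw [h] at hyP'
    exact hyP' (zero_mem _)
  refine ⟨b * z + c, hy0, le_antisymm ?_ ?_, ?_⟩
  · have h1 := mt (mem_pow_iff hPp hP0 hy0 (e + 1)).2 hyP'
    omega
  · exact (mem_pow_iff hPp hP0 hy0 e).1 hyP
  · intro Q hQ hxQ hQP hyQ
    have h1 : P ^ e * B ≤ Q := by
      rw [← hB, Ideal.span_singleton_le_iff_mem]
      exact hxQ
    have h2 : B ≤ Q := by
      rcases hQ.isPrime.mul_le.1 h1 with h | h
      · exact absurd (hP.eq_of_le hQ.ne_top (hQ.isPrime.le_of_pow_le h)).symm hQP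
      · exact h
    apply hQ.ne_top
    rw [Ideal.eq_top_iff_one]
    have h3 := sub_mem hyQ (h2 hy2)
    simpa using h3

end dedekind

section field

variable {L : Type*} [Field L] [NumberField L] {M : Type*} [Field M] [NumberField M]

/-- The product over all embeddings is the norm. -/
theorem prod_embeddings (hc : Nat.card (L →+* M) = Module.finrank ℚ L) (x : 𝓞 L) :
    ∏ φ : L →+* M, RingOfIntegers.mapRingHom φ x = ((Algebra.norm ℤ x : ℤ) : 𝓞 M) := by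
  classical
  let Ω := AlgebraicClosure M
  have h1 : algebraMap ℚ Ω (Algebra.norm ℚ (x : L)) = ∏ σ : L →ₐ[ℚ] Ω, σ (x : L) :=
    Algebra.norm_eq_prod_embeddings ℚ Ω (x : L)
  let ι : M →+* Ω := algebraMap M Ω
  let e : (L →+* M) → (L →ₐ[ℚ] Ω) := fun φ => (ι.comp φ).toRatAlgHom
  have he : Function.Injective e := by
    intro φ ψ h
    ext z
    apply ι.injective
    exact congrArg (fun f : L →ₐ[ℚ] Ω => f z) h
  have hcard : Fintype.card (L →+* M) = Fintype.card (L →ₐ[ℚ] Ω) := by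
    rw [← Nat.card_eq_fintype_card, hc, AlgHom.card]
  have hbij : Function.Bijective e := (Fintype.bijective_iff_injective_and_card e).2 ⟨he, hcard⟩
  apply RingOfIntegers.ext
  apply ι.injective
  have h2 : algebraMap (𝓞 M) M (∏ φ : L →+* M, RingOfIntegers.mapRingHom φ x) = ∏ φ : L →+* M, φ (x : L) := by
    rw [map_prod (algebraMap (𝓞 M) M)]
    rfl
  have h3 : algebraMap (𝓞 M) M ((Algebra.norm ℤ x : ℤ) : 𝓞 M) = ((Algebra.norm ℤ x : ℤ) : M) :=
    map_intCast (algebraMap (𝓞 M) M) _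
  change ι (algebraMap (𝓞 M) M (∏ φ : L →+* M, RingOfIntegers.mapRingHom φ x)) =
    ι (algebraMap (𝓞 M) M ((Algebra.norm ℤ x : ℤ) : 𝓞 M))
  rw [h2, h3, map_prod ι, map_intCast ι]
  have h4 : ∏ φ : L →+* M, ι (φ (x : L)) = ∏ σ : L →ₐ[ℚ] Ω, σ (x : L) :=
    hbij.prod_comp (fun σ : L →ₐ[ℚ] Ω => σ (x : L))
  rw [h4, ← h1, ← Algebra.coe_norm_int, map_intCast]

/-- The order at `𝔓` of the image of an element is governed by its order at `φ⁻¹(𝔓)`. -/
theorem ord_map_le {𝔓 : Ideal (𝓞 M)} (h𝔓 : 𝔓.IsPrime) (h𝔓0 : 𝔓 ≠ ⊥) {𝔭 : Ideal (𝓞 L)} (h𝔭 : 𝔭.IsPrime)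
    (h𝔭0 : 𝔭 ≠ ⊥) (f : 𝓞 L →+* 𝓞 M) (hf : Function.Injective f) (hcomap : 𝔓.comap f = 𝔭) {x y : 𝓞 L}
    (hx : x ≠ 0) (hy : y ≠ 0) (h : multiplicity 𝔭 (Ideal.span {x}) ≤ multiplicity 𝔭 (Ideal.span {y})) :
    multiplicity 𝔓 (Ideal.span {f x}) ≤ multiplicity 𝔓 (Ideal.span {f y}) := by
  obtain ⟨s, t, hs, hst⟩ := exists_mul h𝔭 h𝔭0 hx hy h
  have hs0 : s ≠ 0 := by
    rintro rfl
    exact hs (zero_mem _)
  have ht0 : t ≠ 0 := by
    rintro rfl
    rw [mul_zero] at hst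
    exact (mul_ne_zero hs0 hy) hst
  have hne : ∀ {z : 𝓞 L}, z ≠ 0 → f z ≠ 0 := fun hz => (map_ne_zero_iff f hf).2 hz
  have hfs : f s ∉ 𝔓 := by
    intro h1
    apply hs
    rw [← hcomap]
    exact h1
  have h1 := ord_mul h𝔓 h𝔓0 (hne hs0) (hne hy)
  have h2 := ord_mul h𝔓 h𝔓0 (hne hx) (hne ht0)
  rw [ord_eq_zero hfs, zero_add] at h1
  rw [← h1, ← map_mul, hst, map_mul, h2]
  exact Nat.le_add_right _ _

/-- If `p` is invertible modulo `B` then the norm of `B` is prime to `p`. -/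
theorem not_dvd_absNorm {p : ℕ} (hp : p.Prime) {B : Ideal (𝓞 L)} (hB0 : B ≠ ⊥)
    (hB : B ⊔ Ideal.span {(p : 𝓞 L)} = ⊤) : ¬ p ∣ Ideal.absNorm B := by
  intro hdvd
  have : Fact p.Prime := ⟨hp⟩
  have : Finite (𝓞 L ⧸ B) := Ring.HasFiniteQuotients.finiteQuotient hB0
  rw [Ideal.absNorm_apply, Submodule.cardQuot_apply] at hdvd
  obtain ⟨z, hz⟩ := exists_prime_addOrderOf_dvd_card' (G := 𝓞 L ⧸ B) p hdvd
  have h1 : (1 : 𝓞 L) ∈ B ⊔ Ideal.span {(p : 𝓞 L)} := hB ▸ Submodule.mem_top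
  obtain ⟨b, hb, q, hq, hbq⟩ := Submodule.mem_sup.1 h1
  obtain ⟨t, rfl⟩ := Ideal.mem_span_singleton'.1 hq
  have hpz : (p : 𝓞 L ⧸ B) * z = 0 := by
    have := addOrderOf_nsmul_eq_zero z
    rwa [hz, nsmul_eq_mul] at this
  have h2 : (1 : 𝓞 L ⧸ B) * z = 0 := by
    have h3 : (1 : 𝓞 L ⧸ B) = Ideal.Quotient.mk B t * (p : 𝓞 L ⧸ B) := by
      have h4 := congrArg (Ideal.Quotient.mk B) hbq
      rw [map_add, Ideal.Quotient.eq_zero_iff_mem.2 hb, zero_add, map_mul, map_natCast, map_one] at h4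
      exact h4.symm
    rw [h3, mul_assoc, hpz, mul_zero]
  rw [one_mul] at h2
  rw [h2, addOrderOf_zero] at hz
  exact hp.one_lt.ne hz

/-- The residue field at a prime over `p` has a power of `p` elements. -/
theorem exists_card_eq {p : ℕ} (hp : p.Prime) {𝔭 : Ideal (𝓞 L)} (hmem : (p : 𝓞 L) ∈ 𝔭) :
    ∃ f : ℕ, Nat.card (𝓞 L ⧸ 𝔭) = p ^ f := by
  have h1 := Ideal.absNorm_dvd_norm_of_mem hmem
  have h2 : Algebra.norm ℤ (p : 𝓞 L) = (p : ℤ) ^ Module.finrank ℤ (𝓞 L) := by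
    have := Algebra.norm_algebraMap_of_basis (RingOfIntegers.basis L) (p : ℤ)
    rw [Module.finrank_eq_card_basis (RingOfIntegers.basis L), ← this]
    norm_num
  rw [h2] at h1
  have h3 : Ideal.absNorm 𝔭 ∣ p ^ Module.finrank ℤ (𝓞 L) := by
    exact_mod_cast h1
  obtain ⟨f, -, hf⟩ := (Nat.dvd_prime_pow hp).1 h3
  refine ⟨f, ?_⟩
  rw [← hf, Ideal.absNorm_apply, Submodule.cardQuot_apply]

/-- **Counting embeddings over a prime**: the number of embeddings `φ` with `φ⁻¹(𝔓) = 𝔭` is the local degree. -/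
theorem card_fibre (hc : Nat.card (L →+* M) = Module.finrank ℚ L) {p : ℕ} (hp : p.Prime) {𝔓 : Ideal (𝓞 M)}
    (h𝔓 : 𝔓.IsMaximal) (hp𝔓 : (p : 𝓞 M) ∈ 𝔓) {𝔭 : Ideal (𝓞 L)} (h𝔭 : 𝔭.IsMaximal) (hp𝔭 : (p : 𝓞 L) ∈ 𝔭) :
    Nat.card (𝓞 L ⧸ 𝔭) ^ multiplicity 𝔭 (Ideal.span {(p : 𝓞 L)}) =
      p ^ Nat.card {φ : L →+* M // 𝔓.comap (RingOfIntegers.mapRingHom φ) = 𝔭} := by
  classical
  have hpM : (p : 𝓞 M) ≠ 0 := by exact_mod_cast hp.ne_zero
  have hpL : (p : 𝓞 L) ≠ 0 := by exact_mod_cast hp.ne_zero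
  have h𝔓0 : 𝔓 ≠ ⊥ := by
    rintro rfl
    exact hpM (by simpa using hp𝔓)
  have h𝔭0 : 𝔭 ≠ ⊥ := by
    rintro rfl
    exact hpL (by simpa using hp𝔭)
  obtain ⟨f, hf⟩ := exists_card_eq hp hp𝔭
  obtain ⟨y, hy0, hy1, hy2⟩ := exists_elt h𝔭 h𝔭0 hpL
  set e := multiplicity 𝔭 (Ideal.span {(p : 𝓞 L)}) with he
  -- the norm of `y`
  obtain ⟨B, hB, hB'⟩ := exists_factor h𝔭.isPrime h𝔭0 hy0
  have hB0 : B ≠ ⊥ := by
    rintro rfl
    exact hB' bot_le
  have hBp : B ⊔ Ideal.span {(p : 𝓞 L)} = ⊤ := by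
    by_contra hne
    obtain ⟨Q, hQ, hBQ⟩ := Ideal.exists_le_maximal _ hne
    have hBQ1 : B ≤ Q := le_sup_left.trans hBQ
    have hpQ : (p : 𝓞 L) ∈ Q := hBQ (Ideal.mem_sup_right (Ideal.mem_span_singleton_self _))
    by_cases hQ𝔭 : Q = 𝔭
    · exact hB' (hQ𝔭 ▸ hBQ1)
    · apply hy2 Q hQ hpQ hQ𝔭
      rw [← Ideal.span_singleton_le_iff_mem, hB]
      exact Ideal.mul_le_right.trans hBQ1
  have hb := not_dvd_absNorm hp hB0 hBp
  have hnorm : (Algebra.norm ℤ y).natAbs = p ^ (f * e) * Ideal.absNorm B := by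
    rw [← Ideal.absNorm_span_singleton, hB, map_mul, map_pow, hy1, Ideal.absNorm_apply 𝔭, Submodule.cardQuot_apply, hf,
      ← pow_mul]
  -- the order of the norm
  set v := multiplicity 𝔓 (Ideal.span {(p : 𝓞 M)}) with hv
  have hv0 : 0 < v := by
    rw [Nat.pos_iff_ne_zero, hv, Ne, multiplicity_eq_zero, not_not, Ideal.dvd_span_singleton]
    exact hp𝔓
  have hb𝔓 : ((Ideal.absNorm B : ℕ) : 𝓞 M) ∉ 𝔓 := by
    intro h
    apply h𝔓.ne_top
    rw [Ideal.eq_top_iff_one]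
    have hcop : IsCoprime ((Ideal.absNorm B : ℕ) : ℤ) (p : ℤ) :=
      Nat.isCoprime_iff_coprime.2 ((hp.coprime_iff_not_dvd.2 hb).symm)
    obtain ⟨a, c, hac⟩ := hcop
    have h1 : ((a * (Ideal.absNorm B : ℕ) + c * p : ℤ) : 𝓞 M) = 1 := by rw [hac]; simp
    rw [← h1]
    push_cast
    exact add_mem (Ideal.mul_mem_left _ _ h) (Ideal.mul_mem_left _ _ hp𝔓)
  have hb0 : ((Ideal.absNorm B : ℕ) : 𝓞 M) ≠ 0 := by
    intro h
    rw [h] at hb𝔓
    exact hb𝔓 (zero_mem _)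
  have hleft : multiplicity 𝔓 (Ideal.span {((Algebra.norm ℤ y : ℤ) : 𝓞 M)}) = f * e * v := by
    have h1 : Ideal.span {((Algebra.norm ℤ y : ℤ) : 𝓞 M)} =
        Ideal.span {(p : 𝓞 M) ^ (f * e) * ((Ideal.absNorm B : ℕ) : 𝓞 M)} := by
      have h2 : (p : 𝓞 M) ^ (f * e) * ((Ideal.absNorm B : ℕ) : 𝓞 M) = (((Algebra.norm ℤ y).natAbs : ℕ) : 𝓞 M) := by
        rw [hnorm]
        push_cast
        rfl
      rw [h2]
      rcases Int.natAbs_eq (Algebra.norm ℤ y) with h3 | h3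
      · conv_lhs => rw [h3]
        rw [Int.cast_natCast]
      · conv_lhs => rw [h3]
        rw [Int.cast_neg, Int.cast_natCast, Ideal.span_singleton_neg]
    rw [h1, ord_mul h𝔓.isPrime h𝔓0 (pow_ne_zero _ hpM) hb0, ord_pow h𝔓.isPrime h𝔓0 hpM, ord_eq_zero hb𝔓, add_zero]
  -- the sum over the embeddings
  have hinj : ∀ φ : L →+* M, Function.Injective (RingOfIntegers.mapRingHom φ) := fun φ a b hab => by
    apply RingOfIntegers.ext
    apply φ.injective
    exact congrArg (fun z : 𝓞 M => (z : M)) hab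
  have hfp : ∀ φ : L →+* M, RingOfIntegers.mapRingHom φ (p : 𝓞 L) = (p : 𝓞 M) := fun φ => map_natCast _ _
  have hterm : ∀ φ : L →+* M, multiplicity 𝔓 (Ideal.span {RingOfIntegers.mapRingHom φ y}) =
      if 𝔓.comap (RingOfIntegers.mapRingHom φ) = 𝔭 then v else 0 := by
    intro φ
    split_ifs with h
    · rw [hv, ← hfp φ]
      apply le_antisymm
      · exact ord_map_le h𝔓.isPrime h𝔓0 h𝔭.isPrime h𝔭0 _ (hinj φ) h hy0 hpL hy1.le
      · exact ord_map_le h𝔓.isPrime h𝔓0 h𝔭.isPrime h𝔭0 _ (hinj φ) h hpL hy0 hy1.ge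
    · apply ord_eq_zero
      have hpr : (𝔓.comap (RingOfIntegers.mapRingHom φ)).IsPrime := Ideal.comap_isPrime _ 𝔓
      have hpm : (p : 𝓞 L) ∈ 𝔓.comap (RingOfIntegers.mapRingHom φ) := by
        rw [Ideal.mem_comap, hfp]
        exact hp𝔓
      have hmax : (𝔓.comap (RingOfIntegers.mapRingHom φ)).IsMaximal := by
        apply hpr.isMaximal
        intro h0
        rw [h0] at hpm
        exact hpL (by simpa using hpm)
      exact fun hh => hy2 _ hmax hpm h hh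
  have hsum : f * e * v = Nat.card {φ : L →+* M // 𝔓.comap (RingOfIntegers.mapRingHom φ) = 𝔭} * v := by
    rw [← hleft, ← prod_embeddings hc y, ord_prod h𝔓.isPrime h𝔓0 _ _ fun φ _ => (map_ne_zero_iff _ (hinj φ)).2 hy0,
      Finset.sum_congr rfl fun φ _ => hterm φ, ← Finset.sum_filter, Finset.sum_const, smul_eq_mul,
      Nat.card_eq_fintype_card, Fintype.card_subtype]
  rw [hf, ← pow_mul, Nat.eq_of_mul_eq_mul_right hv0 hsum]

end field

end K940.Nt3a
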